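import Groth.Agent.S4130
import Groth.Agent.Lib.MTBridge.Bridge
import Groth.Agent.Lib.GrpQ.AffineQuot
import Groth.Agent.Lib.GrpQ.DomFlat
import Groth.Agent.Lib.CharExt76.Sch
import Groth.Prelude.Def_SGA3x

/-!
# The irreducible component of `1` and the largest subgroup of multiplicative type
-/

set_option autoImplicit false
set_option linter.style.haveILetI false
set_option backward.isDefEq.respectTransparency false
universe u

open CategoryTheory MonoidalCategory CartesianMonoidalCategory MonObj GrpObj AlgebraicGeometry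
open TensorProduct
open Groth.Agent.Lib Groth.Agent.Lib.Hopf Groth.Agent.Lib.Hopf.Irred Groth.Agent.Lib.Hopf.IrredBaseChange
open Groth.Agent.Lib.RedPts.Points

namespace Groth.Agent.Lib.MultExact6

noncomputable section

attribute [local instance] baseAlgebra

variable {k : Type u} [Field k] {A C : Type u} [CommRing A] [HopfAlgebra k A] [CommRing C] [HopfAlgebra k C]

/-- A homomorphism to a group algebra form is scalar on the component of `1`. -/
theorem map_irred (g : A →ₐc[k] C) (hC : SGA3b.IsMultTypeConst k C) {a : A} (ha : a ∈ irred k A) :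
    g a = algebraMap k C (CoalgebraStruct.counit (R := k) a) := by
  obtain ⟨K, _, _, hff, M, _, ⟨e⟩⟩ := hC
  obtain ⟨n, hn⟩ := mem_irred.1 ha
  let f : A →ₐ[k] MonoidAlgebra K M :=
    (((e : K ⊗[k] C →ₐc[K] MonoidAlgebra K M) : K ⊗[k] C →ₐ[K]
      MonoidAlgebra K M).restrictScalars k).comp
      (Algebra.TensorProduct.includeRight.comp (g : A →ₐ[k] C))
  have hf : Compat K f :=
    (compat_includeRight.comp_left g).comp_bialgHom _
  have h := map_F_monoidAlgebra hf hn
  rw [← IsScalarTower.algebraMap_apply k K (MonoidAlgebra K M), ← AlgHom.commutes f] at h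
  have h2 : (1 : K) ⊗ₜ[k] g a = (1 : K) ⊗ₜ[k] (g (algebraMap k A (CoalgebraStruct.counit (R := k) a))) := e.injective h
  have h3 := Algebra.TensorProduct.includeRight_injective (R := k) (A := K) (B := C)
    (FaithfulSMul.algebraMap_injective k K) h2
  rw [h3]
  exact AlgHomClass.commutes g _

/-- The component of `1` pulls back along an injective map. -/
theorem mem_F_of_injective (g : A →ₐc[k] C) (hg : Function.Injective g) :
    ∀ {n : ℕ} {a : A}, g a ∈ F k C n → a ∈ F k A n
  | 0, a, ha => by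
      obtain ⟨c, hc⟩ := Submodule.mem_span_singleton.1 ha
      exact Submodule.mem_span_singleton.2 ⟨c, hg (by rw [map_smul, map_one, hc])⟩
  | n + 1, a, ha => by
      refine mem_succ.2 (ComodRing.mem_tensorRight_of_slices fun χ => ?_)
      let gl : A →ₗ[k] C := (g : A →ₐ[k] C).toLinearMap
      obtain ⟨p, hp⟩ := gl.exists_leftInverse_of_injective (LinearMap.ker_eq_bot.2 hg)
      obtain ⟨χ', rfl⟩ : ∃ χ', χ' ∘ₗ gl = χ :=
        ⟨χ ∘ₗ p, by rw [LinearMap.comp_assoc, hp, LinearMap.comp_id]⟩
      refine mem_F_of_injective g hg ?_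
      have hz : ∀ z : A ⊗[k] A, g (ComodRing.slice (χ' ∘ₗ gl) z) =
          ComodRing.slice χ' (TensorProduct.map gl gl z) := by
        intro z
        induction z using TensorProduct.induction_on with
        | zero => simp
        | tmul x y => simp [gl]
        | add x y hx hy => simp only [map_add, hx, hy]
      rw [hz, map_sub, show TensorProduct.map gl gl (CoalgebraStruct.comul (R := k) a) =
        CoalgebraStruct.comul (R := k) (g a) from CoalgHomClass.map_comp_comul_apply g a,
        TensorProduct.map_tmul, show gl (1 : A) = 1 from map_one g]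
      exact ComodRing.slice_mem_of_mem (mem_succ.1 ha) χ'

theorem mem_irred_of_injective (g : A →ₐc[k] C) (hg : Function.Injective g) {a : A}
    (ha : g a ∈ irred k C) : a ∈ irred k A := by
  obtain ⟨n, hn⟩ := mem_irred.1 ha
  exact mem_irred.2 ⟨n, mem_F_of_injective g hg hn⟩

/-- An affine group of multiplicative type over a field has a diagonalisable form. -/
theorem isMultTypeConst_of_multTypeFT {H : Over (Spec (CommRingCat.of k))} [GrpObj H]
    (hH : SGA3x.IsMultTypeFT H) (e : Grp.mk (MTBridge.GA k C) ≅ Grp.mk H) : SGA3b.IsMultTypeConst k C := by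
  obtain ⟨S', f, -, hs, -, hloc⟩ := hH
  obtain ⟨s', -⟩ := hs.surj (⟨⊥, Ideal.isPrime_bot⟩ : PrimeSpectrum k)
  obtain ⟨U, hU, M, _, -, ⟨c⟩⟩ := hloc s'
  obtain ⟨V, hV, hsV, hVU⟩ := exists_isAffineOpen_mem_and_subset (X := S') (x := s') (U := U) hU
  let r : Spec Γ(S', V) ⟶ (U : Scheme.{u}) := IsOpenImmersion.lift U.ι hV.fromSpec (by
    rw [Scheme.Opens.range_ι, hV.range_fromSpec]
    exact hVU)
  let T : Type u := Γ(S', V)
  let φ : CommRingCat.of k ⟶ CommRingCat.of T := Spec.preimage (r ≫ U.ι ≫ f)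
  letI : Algebra k T := φ.hom.toAlgebra
  haveI : Nontrivial T := by
    obtain ⟨y, -⟩ : s' ∈ Set.range hV.fromSpec.base := by rw [hV.range_fromSpec]; exact hsV
    exact (PrimeSpectrum.nonempty_iff_nontrivial (R := T)).mp ⟨y⟩
  have hφ : Spec.map (CommRingCat.ofHom (algebraMap k T)) = r ≫ U.ι ≫ f := Spec.map_preimage _
  exact ⟨T, inferInstance, inferInstance, inferInstance, MTBridge.isDiag_of_chart T
    (Tori.BaseChange.bcMapIso _ e ≪≫ Tori.BaseChange.bcCongr hφ H ≪≫ Groth.Agent.H87.Charts.resChart c r)⟩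

theorem multTypeFT_of_const [Algebra.FiniteType k C] (h : SGA3b.IsMultTypeConst k C) :
    SGA3x.IsMultTypeFT (GrpQ.AffQ.sp k C) := by
  obtain ⟨T, _, _, hff, hd⟩ := h
  haveI := hff
  exact MTBridge.isMultTypeFT_of_affine _ fun s => ⟨k, inferInstance, 𝟙 _, inferInstance, C, inferInstance,
    inferInstance, ⟨s, rfl⟩, inferInstance, Groth.Agent.H83.MultType.isMultType_of_diag T hd,
    ⟨Tori.BaseChange.bcId _⟩⟩

/-- A homomorphism from a group of multiplicative type is scalar on the component of `1`. -/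
theorem scalar_of_mult {M : Over (Spec (CommRingCat.of k))} [GrpObj M] [IsAffine M.left]
    (f : M ⟶ GrpQ.AffQ.sp k A) [IsMonHom f] (hM : SGA3x.IsMultTypeFT M)
    {T : Over (Spec (CommRingCat.of k))} (m : T ⟶ M) {a : A} (ha : a ∈ irred k A) :
    algHomOf (m ≫ f) a = algebraMap k Γ(T.left, ⊤) (CoalgebraStruct.counit (R := k) a) := by
  obtain ⟨R, _, _, eM, heM⟩ := H1.Hopf.exists_iso M
  haveI := heM
  obtain ⟨φ, hφ⟩ := GrpQ.DomFlat.exists_bialgHom (eM.inv ≫ f)
  haveI : IsMonHom eM.symm.hom := inferInstanceAs (IsMonHom eM.inv)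
  have hR : SGA3b.IsMultTypeConst k R := isMultTypeConst_of_multTypeFT hM (Grp.mkIso' eM.symm)
  rw [show m ≫ f = (m ≫ eM.hom) ≫ eM.inv ≫ f by simp,
    GrpQ.AffQ.algHomOf_comp _ _ (φ : A →ₐ[k] R) (by rw [← hφ]; rfl), show (φ : A →ₐ[k] R) a = φ a from rfl,
    map_irred φ hR ha, AlgHom.commutes]

variable (G : Over (Spec (CommRingCat.of k))) [GrpObj G]

/-- The largest subgroup of multiplicative type in terms of the component of `1`. -/
theorem factor_iff [IsCommMonObj G] [LocallyOfFiniteType G.hom]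
    (e : G ≅ GrpQ.AffQ.sp k A) [IsMonHom e.hom]
    (M : Over (Spec (CommRingCat.of k))) [GrpObj M] (j : M ⟶ G) [IsMonHom j] [IsClosedImmersion j.left]
    (hM : SGA3x.IsMultTypeFT M)
    (hMmax : ∀ (M' : Over (Spec (CommRingCat.of k))) [GrpObj M'] (j' : M' ⟶ G) [IsMonHom j']
      [IsClosedImmersion j'.left], SGA3x.IsMultTypeFT M' → ∃ g : M' ⟶ M, g ≫ j = j')
    {T : Over (Spec (CommRingCat.of k))} (x : T ⟶ G) :
    (∃ m : T ⟶ M, m ≫ j = x) ↔
      ∀ a ∈ irred k A, algHomOf (x ≫ e.hom) a = algebraMap k Γ(T.left, ⊤) (CoalgebraStruct.counit (R := k) a) := by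
  haveI := CharExt76.isCocomm_of_isCommMonObj G e
  haveI : IsAffineHom G.hom := by
    haveI : IsIso e.hom.left := inferInstanceAs (IsIso ((Over.forget _).map e.hom))
    rw [← Over.w e.hom]
    infer_instance
  haveI : IsAffine G.left := isAffine_of_isAffineHom G.hom
  haveI : Algebra.FiniteType k A := by
    haveI : IsIso e.inv.left := inferInstanceAs (IsIso ((Over.forget _).map e.inv))
    haveI h : LocallyOfFiniteType (GrpQ.AffQ.sp k A).hom := by rw [← Over.w e.inv]; infer_instance
    have h' : LocallyOfFiniteType (Spec.map (CommRingCat.ofHom (algebraMap k A))) := h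
    rw [HasRingHomProperty.Spec_iff (P := @LocallyOfFiniteType), CommRingCat.hom_ofHom] at h'
    exact RingHom.finiteType_algebraMap.1 h'
  constructor
  · rintro ⟨m, rfl⟩ a ha
    haveI : IsAffine M.left := isAffine_of_isAffineHom j.left
    rw [Category.assoc]
    exact scalar_of_mult (j ≫ e.hom) hM m ha
  · intro hx
    let J := SGA3.augIdealSpan k A (irred k A)
    haveI : J.IsHopfIdeal k := isHopfIdeal_augIdealSpan (isHopfSubalgebra_irred (k := k) (A := A))
    haveI : Algebra.FiniteType k (A ⧸ J) :=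
      Algebra.FiniteType.of_surjective (Ideal.Quotient.mkₐ k J) Ideal.Quotient.mk_surjective
    let mk : A →ₐc[k] A ⧸ J := Bialgebra.Quotient.mkBialgHom (R := k) J
    let κ := GrpQ.AffQ.homOfBialgHom mk
    haveI : IsClosedImmersion κ.left := by
      rw [GrpQ.AffQ.homOfBialgHom_left]
      exact IsClosedImmersion.spec_of_surjective _ Ideal.Quotient.mk_surjective
    haveI : IsClosedImmersion (κ ≫ e.inv).left := by
      haveI : IsIso e.inv.left := inferInstanceAs (IsIso ((Over.forget _).map e.inv))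
      rw [Over.comp_left]
      infer_instance
    obtain ⟨g, hg⟩ := hMmax _ (κ ≫ e.inv) (multTypeFT_of_const (Groth.Agent.S4130.isMultTypeConst_quot k A))
    have hker : J ≤ RingHom.ker (algHomOf (x ≫ e.hom)) := Ideal.span_le.2 fun a ha => by
      show algHomOf (x ≫ e.hom) a = 0
      rw [hx a ha.1, ha.2, map_zero]
    refine ⟨pointOf (Ideal.Quotient.liftₐ J (algHomOf (x ≫ e.hom)) fun a ha => hker ha) ≫ g, ?_⟩
    rw [Category.assoc, hg, ← Category.assoc, Iso.comp_inv_eq]
    refine algHomOf_injective (AlgHom.ext fun a => ?_)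
    rw [GrpQ.AffQ.algHomOf_comp _ κ (mk : A →ₐ[k] A ⧸ J) rfl, algHomOf_pointOf]
    rfl

end

end Groth.Agent.Lib.MultExact6
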